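import Mathlib
import Cfsg.Agent.H1.CoprimeAction
import Cfsg.Agent.H1.CoprimeAction2

/-!
A coprime solvable action has the same fixed point numbers as an action on a product of elementary
abelian groups (helper89).
-/

set_option autoImplicit false
set_option linter.unusedSectionVars false
set_option linter.style.haveILetI false

universe u v

namespace H89.BaseTwo

open SemidirectProduct

variable {A : Type u} [Group A] [Finite A]

/-- The subgroup fixed by a set of operators. -/
def fixSub {K : Type v} [Group K] (φ : A →* MulAut K) (B : Subgroup A) : Subgroup K where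
  carrier := {x | ∀ b ∈ B, φ b x = x}
  one_mem' b _ := map_one _
  mul_mem' hx hy b hb := by rw [map_mul, hx b hb, hy b hb]
  inv_mem' hx b hb := by rw [map_inv, hx b hb]

theorem mem_fixSub {K : Type v} [Group K] {φ : A →* MulAut K} {B : Subgroup A} {x : K} :
    x ∈ fixSub φ B ↔ ∀ b ∈ B, φ b x = x :=
  Iff.rfl

section Action

variable {K : Type v} [Group K] [Finite K] (φ : A →* MulAut K)

theorem finite_semi : Finite (K ⋊[φ] A) :=
  Finite.of_equiv _ SemidirectProduct.equivProd.symm

theorem conj_inl (a : A) (k : K) :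
    (inr a : K ⋊[φ] A) * inl k * (inr a : K ⋊[φ] A)⁻¹ = inl (φ a k) := by
  rw [← map_inv]; exact (inl_aut a k).symm

theorem mem_centralizer_inr_iff (B : Subgroup A) (k : K) :
    (inl k : K ⋊[φ] A) ∈ Subgroup.centralizer ((B.map inr : Subgroup (K ⋊[φ] A)) : Set (K ⋊[φ] A)) ↔
      k ∈ fixSub φ B := by
  simp only [Subgroup.mem_centralizer_iff, Subgroup.coe_map, Set.forall_mem_image, SetLike.mem_coe,
    mem_fixSub]
  refine forall₂_congr fun b _ => ?_
  rw [← (inl_injective (φ := φ)).eq_iff (a := φ b k), ← conj_inl φ b k, mul_inv_eq_iff_eq_mul]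

theorem inr_le_normalizer (B : Subgroup A) (N : Subgroup K)
    (hN : ∀ b ∈ B, ∀ x ∈ N, φ b x ∈ N) :
    (B.map inr : Subgroup (K ⋊[φ] A)) ≤
      Subgroup.normalizer ((N.map inl : Subgroup (K ⋊[φ] A)) : Set (K ⋊[φ] A)) := by
  rintro _ ⟨b, hb, rfl⟩
  rw [Subgroup.mem_normalizer_iff]
  intro x
  constructor
  · rintro ⟨n, hn, rfl⟩
    exact ⟨φ b n, hN b hb n hn, (conj_inl φ b n).symm⟩
  · rintro ⟨n, hn, hx⟩
    refine ⟨φ b⁻¹ n, hN b⁻¹ (inv_mem hb) n hn, ?_⟩
    rw [← conj_inl, hx, map_inv]
    group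

theorem card_map_inl (N : Subgroup K) :
    Nat.card ↥(N.map inl : Subgroup (K ⋊[φ] A)) = Nat.card N :=
  Subgroup.card_map_of_injective inl_injective

theorem card_map_inr (B : Subgroup A) :
    Nat.card ↥(B.map inr : Subgroup (K ⋊[φ] A)) = Nat.card B :=
  Subgroup.card_map_of_injective inr_injective

/-- A coset of an invariant subgroup fixed by `B` has a fixed representative. -/
theorem exists_fix_in_coset (hA : Group.IsSolvable A) (hcop : (Nat.card A).Coprime (Nat.card K))
    (B : Subgroup A) (N : Subgroup K) (hN : ∀ b ∈ B, ∀ x ∈ N, φ b x ∈ N) (k : K)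
    (hk : ∀ b ∈ B, k⁻¹ * φ b k ∈ N) :
    ∃ c ∈ fixSub φ B, k⁻¹ * c ∈ N := by
  haveI := finite_semi φ
  haveI := hA
  obtain ⟨c, hc, hkc⟩ := H1.exists_fixed_mem_coset (A := (B.map inr : Subgroup (K ⋊[φ] A)))
    (N := N.map inl) (k := inl k) (inr_le_normalizer φ B N hN)
    (by rw [card_map_inl, card_map_inr]
        exact (hcop.symm.coprime_dvd_left (Subgroup.card_subgroup_dvd_card N)).coprime_dvd_right
          (Subgroup.card_subgroup_dvd_card B))
    (Or.inr (Group.isSolvable_of_surjective
      (f := (inr : A →* K ⋊[φ] A).subgroupMap B) (MonoidHom.subgroupMap_surjective _ B)))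
    (by
      rintro _ ⟨b, hb, rfl⟩
      rw [conj_inl, ← map_inv, ← map_mul]
      exact Subgroup.mem_map_of_mem _ (hk b hb))
  obtain ⟨n, hn, hne⟩ := hkc
  have hc' : c = inl (k * n) := by rw [map_mul, hne]; group
  refine ⟨k * n, (mem_centralizer_inr_iff φ B _).1 (hc' ▸ hc), by simpa using hn⟩

/-- An invariant Sylow subgroup meets every fixed point subgroup in a Sylow subgroup of it. -/
theorem exists_sylow_fix (hA : Group.IsSolvable A) (hcop : (Nat.card A).Coprime (Nat.card K))
    (p : ℕ) [Fact p.Prime] :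
    ∃ P : Subgroup K, IsPGroup p P ∧ (∀ a : A, ∀ x ∈ P, φ a x ∈ P) ∧
      ∀ B : Subgroup A,
        (Nat.card (fixSub φ B)).factorization p =
          (Nat.card ↥(fixSub φ B ⊓ P)).factorization p := by
  haveI := finite_semi φ
  haveI := hA
  set X := K ⋊[φ] A
  set K' : Subgroup X := (inl : K →* X).range with hK'
  have htop : (inl : K →* X).range = (⊤ : Subgroup K).map inl := MonoidHom.range_eq_map _
  have hcard : Nat.card K' = Nat.card K := by rw [hK', htop, card_map_inl, Subgroup.card_top]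
  have hnorm : ∀ B : Subgroup A, (B.map inr : Subgroup X) ≤ Subgroup.normalizer (K' : Set X) :=
    fun B => by rw [hK', htop]; exact inr_le_normalizer φ B ⊤ fun _ _ _ _ => Subgroup.mem_top _
  have hcopB : ∀ B : Subgroup A, (Nat.card ↥(B.map inr : Subgroup X)).Coprime (Nat.card K') :=
    fun B => by
      rw [card_map_inr, hcard]; exact hcop.coprime_dvd_left (Subgroup.card_subgroup_dvd_card B)
  have hsol : ∀ B : Subgroup A, Group.IsSolvable ↥(B.map inr : Subgroup X) ∨ Group.IsSolvable K' :=
    fun B => Or.inl (Group.isSolvable_of_surjective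
      (f := (inr : A →* X).subgroupMap B) (MonoidHom.subgroupMap_surjective _ B))
  obtain ⟨S, hS⟩ := H1.exists_invariant_sylow (hnorm ⊤) (hcopB ⊤) (hsol ⊤) p
  set S' := (S : Subgroup K').map K'.subtype with hS'
  set P : Subgroup K := S'.comap inl with hP
  have hPmap : P.map inl = S' := Subgroup.map_comap_eq_self (Subgroup.map_subtype_le _)
  have hPinv : ∀ a : A, ∀ x ∈ P, φ a x ∈ P := fun a x hx => by
    rw [hP, Subgroup.mem_comap, ← conj_inl]
    exact (Subgroup.mem_normalizer_iff.1
      (hS (Subgroup.mem_map_of_mem _ (Subgroup.mem_top a))) _).1 hx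
  have hPp : IsPGroup p P := (S.isPGroup'.map _).comap_of_injective inl inl_injective
  refine ⟨P, hPp, hPinv, fun B => ?_⟩
  set F := fixSub φ B
  obtain ⟨Q⟩ := (inferInstance : Nonempty (Sylow p F))
  set U : Subgroup X := ((Q : Subgroup F).map F.subtype).map inl with hU
  have hUfix : ∀ x ∈ U, x ∈ Subgroup.centralizer ((B.map inr : Subgroup X) : Set X) := by
    rintro _ ⟨k, hk, rfl⟩
    exact (mem_centralizer_inr_iff φ B k).2 (Subgroup.map_subtype_le _ hk)
  have hUA : (B.map inr : Subgroup X) ≤ Subgroup.normalizer (U : Set X) := fun a ha => by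
    rw [Subgroup.mem_normalizer_iff]
    intro x
    constructor
    · intro hx
      have := Subgroup.mem_centralizer_iff.1 (hUfix x hx) a ha
      rwa [this, mul_inv_cancel_right]
    · intro hx
      have h1 := Subgroup.mem_centralizer_iff.1 (hUfix _ hx) a ha
      have h2 : a * x * a⁻¹ = x := by
        apply mul_left_cancel (a := a)
        rw [h1]; group
      rwa [h2] at hx
  obtain ⟨R, hUR, hR⟩ := H1.exists_invariant_sylow_ge (hnorm B) (hcopB B) (hsol B) p (U := U)
    (Subgroup.map_le_range _ _) ((Q.isPGroup'.map _).map _) hUA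
  obtain ⟨c, hc, hcR⟩ := H1.exists_fixed_conj_sylow (hnorm B) (hcopB B) (hsol B) p R S hR
    ((Subgroup.map_mono le_top).trans hS)
  obtain ⟨k, hk⟩ := c.2
  have hkF : k ∈ F := (mem_centralizer_inr_iff φ B k).1 (by rw [hk]; exact hc)
  have hle : ((Q : Subgroup F).map F.subtype).map (MulAut.conj k).toMonoidHom ≤ F ⊓ P := by
    rintro _ ⟨x, hx, rfl⟩
    refine ⟨F.mul_mem (F.mul_mem hkF (Subgroup.map_subtype_le _ hx)) (F.inv_mem hkF), ?_⟩
    change k * x * k⁻¹ ∈ P
    obtain ⟨y, hy, hyx⟩ := hUR (Subgroup.mem_map_of_mem inl hx)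
    rw [hP, Subgroup.mem_comap, hS', map_mul, map_mul, map_inv, hk]
    refine ⟨c * y * c⁻¹, ?_, by simp at hyx ⊢; rw [hyx]⟩
    rw [← hcR]
    exact Subgroup.smul_mem_pointwise_smul y (MulAut.conj c) _ hy
  have h1 := Subgroup.card_dvd_of_le hle
  rw [Subgroup.card_map_of_injective (MulEquiv.injective _),
    Subgroup.card_map_of_injective F.subtype_injective, Q.card_eq_multiplicity] at h1
  refine le_antisymm ?_ ((Nat.factorization_le_iff_dvd Nat.card_pos.ne' Nat.card_pos.ne').2
    (Subgroup.card_dvd_of_le inf_le_left) p)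
  exact ((Fact.out : p.Prime).pow_dvd_iff_le_factorization Nat.card_pos.ne').1 h1

end Action

end H89.BaseTwo
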