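import Mathlib
import Cfsg.Agent.H89.BaseTwo.Marks
import Cfsg.Agent.H89.Marks

/-!
Pairs with trivial stabilizer for coprime solvable actions, reduced to elementary abelian groups
(helper89).
-/

set_option autoImplicit false
set_option linter.unusedSectionVars false
set_option linter.style.haveILetI false

universe u v

namespace H89.BaseTwo

variable {A : Type u} [Group A] [Finite A]

/-- An automorphism action restricted to an invariant subgroup. -/
def restrictAct {K : Type v} [Group K] (φ : A →* MulAut K) (N : Subgroup K)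
    (hN : ∀ a : A, ∀ x ∈ N, φ a x ∈ N) : A →* MulAut N where
  toFun a :=
    { toFun := fun x => ⟨φ a x, hN a x x.2⟩
      invFun := fun x => ⟨φ a⁻¹ x, hN a⁻¹ x x.2⟩
      left_inv := fun x => Subtype.ext (by simp)
      right_inv := fun x => Subtype.ext (by simp)
      map_mul' := fun x y => Subtype.ext (by simp) }
  map_one' := by ext x; simp
  map_mul' a b := by ext x; simp

theorem map_eq_of_invariant {K : Type v} [Group K] (φ : A →* MulAut K) (N : Subgroup K)
    (hN : ∀ a : A, ∀ x ∈ N, φ a x ∈ N) (a : A) :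
    N.map ((φ a : K ≃* K) : K →* K) = N := by
  refine le_antisymm ?_ fun x hx => ?_
  · rintro _ ⟨x, hx, rfl⟩; exact hN a x hx
  · exact ⟨φ a⁻¹ x, hN a⁻¹ x hx, by simp⟩

/-- An automorphism action on the quotient by an invariant normal subgroup. -/
def quotAct {K : Type v} [Group K] (φ : A →* MulAut K) (N : Subgroup K) [N.Normal]
    (hN : ∀ a : A, ∀ x ∈ N, φ a x ∈ N) : A →* MulAut (K ⧸ N) where
  toFun a := QuotientGroup.congr N N (φ a) (map_eq_of_invariant φ N hN a)
  map_one' := by
    ext q
    induction q using QuotientGroup.induction_on with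
    | _ x => simp
  map_mul' a b := by
    ext q
    induction q using QuotientGroup.induction_on with
    | _ x => simp

theorem quotAct_mk {K : Type v} [Group K] (φ : A →* MulAut K) (N : Subgroup K) [N.Normal]
    (hN : ∀ a : A, ∀ x ∈ N, φ a x ∈ N) (a : A) (x : K) :
    quotAct φ N hN a (x : K ⧸ N) = ((φ a x : K) : K ⧸ N) := by
  simp [quotAct]

/-- Fixed points split along an invariant normal subgroup. -/
theorem card_fixSub_eq_mul {K : Type v} [Group K] [Finite K] (φ : A →* MulAut K)
    (hA : Group.IsSolvable A) (hcop : (Nat.card A).Coprime (Nat.card K))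
    (N : Subgroup K) [N.Normal] (hN : ∀ a : A, ∀ x ∈ N, φ a x ∈ N) (B : Subgroup A) :
    Nat.card (fixSub φ B) =
      Nat.card (fixSub (restrictAct φ N hN) B) * Nat.card (fixSub (quotAct φ N hN) B) := by
  set f : fixSub φ B →* K ⧸ N := (QuotientGroup.mk' N).comp (fixSub φ B).subtype
  have hrange : f.range = fixSub (quotAct φ N hN) B := by
    refine le_antisymm ?_ fun q hq => ?_
    · rintro _ ⟨x, rfl⟩ b hb
      change quotAct φ N hN b ((x : K) : K ⧸ N) = _
      rw [quotAct_mk, x.2 b hb]; rfl
    · induction q using QuotientGroup.induction_on with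
      | _ k =>
        obtain ⟨c, hc, hkc⟩ := exists_fix_in_coset φ hA hcop B N (fun b _ => hN b) k
          fun b hb => QuotientGroup.eq.1 ((quotAct_mk φ N hN b k).symm.trans (hq b hb)).symm
        exact ⟨⟨c, hc⟩, (QuotientGroup.eq.2 hkc).symm⟩
  have hker : Nat.card f.ker = Nat.card (fixSub (restrictAct φ N hN) B) := by
    refine Nat.card_congr
      { toFun := fun x => ⟨⟨((x : fixSub φ B) : K),
          (QuotientGroup.eq_one_iff _).1 x.2⟩, fun b hb => Subtype.ext ((x : fixSub φ B).2 b hb)⟩
        invFun := fun x => ⟨⟨((x : N) : K), fun b hb => congrArg Subtype.val (x.2 b hb)⟩,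
          (QuotientGroup.eq_one_iff _).2 (x : N).2⟩
        left_inv := fun x => rfl
        right_inv := fun x => rfl }
  rw [← hker, ← hrange, ← Subgroup.index_ker, Subgroup.card_mul_index]

theorem card_fixSub_prod {K : Type v} {L : Type v} [Group K] [Group L] (φ : A →* MulAut K)
    (ψ : A →* MulAut L) (χ : A →* MulAut (K × L))
    (hχ : ∀ a x, χ a x = (φ a x.1, ψ a x.2)) (B : Subgroup A) :
    Nat.card (fixSub χ B) = Nat.card (fixSub φ B) * Nat.card (fixSub ψ B) := by
  have : fixSub χ B = (fixSub φ B).prod (fixSub ψ B) := by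
    ext x
    simp only [mem_fixSub, Subgroup.mem_prod, hχ, Prod.ext_iff, forall_and]
  rw [this, Nat.card_congr ((fixSub φ B).prodEquiv (fixSub ψ B)).toEquiv, Nat.card_prod]

/-- A `p`-group with a coprime action has the same fixed point numbers as an elementary abelian
group. -/
theorem exists_elementary_model (hA : Group.IsSolvable A) (p : ℕ) [Fact p.Prime] :
    ∀ (n : ℕ) (P : Type v) [Group P] [Finite P], Nat.card P = n → IsPGroup p P →
      ∀ φ : A →* MulAut P, (Nat.card A).Coprime (Nat.card P) →
      ∃ (V : Type v) (_ : CommGroup V) (_ : Finite V) (ψ : A →* MulAut V),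
        (∀ x : V, x ^ p = 1) ∧
          ∀ B : Subgroup A, Nat.card (fixSub ψ B) = Nat.card (fixSub φ B) := by
  intro n
  induction n using Nat.strong_induction_on with
  | _ n ih =>
    intro P _ _ hn hP φ hcop
    rcases subsingleton_or_nontrivial P with hs | hs
    · refine ⟨PUnit.{v + 1}, inferInstance, inferInstance, 1, fun _ => rfl, fun B => ?_⟩
      haveI : Unique P := uniqueOfSubsingleton 1
      simp
    let N : Subgroup P :=
      { carrier := {x | x ∈ Subgroup.center P ∧ x ^ p = 1}
        one_mem' := ⟨one_mem _, one_pow _⟩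
        mul_mem' := fun {x y} hx hy => ⟨mul_mem hx.1 hy.1, by
          rw [Commute.mul_pow (Subgroup.mem_center_iff.1 hy.1 x) p, hx.2, hy.2, one_mul]⟩
        inv_mem' := fun hx => ⟨inv_mem hx.1, by rw [inv_pow, hx.2, inv_one]⟩ }
    haveI hNn : N.Normal := ⟨fun x hx g => by
      rwa [Subgroup.mem_center_iff.1 hx.1 g, mul_inv_cancel_right]⟩
    have hN : ∀ a : A, ∀ x ∈ N, φ a x ∈ N := fun a x hx => ⟨by
      rw [Subgroup.mem_center_iff]
      intro g
      obtain ⟨g, rfl⟩ := (φ a).surjective g
      rw [← map_mul, ← map_mul, Subgroup.mem_center_iff.1 hx.1 g], by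
      rw [← map_pow, hx.2, map_one]⟩
    have hNne : N ≠ ⊥ := by
      haveI := hP.center_nontrivial
      obtain ⟨z, hz⟩ := exists_prime_orderOf_dvd_card' (G := Subgroup.center P) p (by
        rcases (hP.to_subgroup (Subgroup.center P)).card_eq_or_dvd with h | h
        · exact absurd h (Finite.one_lt_card (α := Subgroup.center P)).ne'
        · exact h)
      intro hb
      have hzN : (z : P) ∈ N := ⟨z.2, by
        rw [← Subgroup.orderOf_coe] at hz
        rw [← hz, pow_orderOf_eq_one]⟩
      rw [hb, Subgroup.mem_bot] at hzN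
      rw [← Subgroup.orderOf_coe, hzN, orderOf_one] at hz
      exact (Fact.out : p.Prime).one_lt.ne hz
    have hlt : Nat.card (P ⧸ N) < n := by
      have h1 := Subgroup.card_eq_card_quotient_mul_card_subgroup N
      have h2 : 1 < Nat.card N := (Subgroup.one_lt_card_iff_ne_bot N).2 hNne
      have h3 : 0 < Nat.card (P ⧸ N) := Nat.card_pos
      rw [← hn, h1]
      exact lt_mul_of_one_lt_right h3 h2
    obtain ⟨V, _, _, ψ, hexp, hψ⟩ := ih _ hlt (P ⧸ N) rfl (hP.to_quotient N) (quotAct φ N hN)
      (hcop.coprime_dvd_right (Subgroup.card_quotient_dvd_card N))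
    haveI : IsMulCommutative N :=
      ⟨⟨fun x y => Subtype.ext (Subgroup.mem_center_iff.1 y.2.1 x)⟩⟩
    letI : CommGroup N := { (inferInstance : Group N) with
      mul_comm := fun x y => Subtype.ext (Subgroup.mem_center_iff.1 y.2.1 x) }
    let χ : A →* MulAut (N × V) :=
      { toFun := fun a => MulEquiv.prodCongr (restrictAct φ N hN a) (ψ a)
        map_one' := by apply MulEquiv.ext; intro x; simp; rfl
        map_mul' := fun a b => by apply MulEquiv.ext; intro x; simp; rfl }
    refine ⟨N × V, inferInstance, inferInstance, χ,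
      fun x => Prod.ext (Subtype.ext x.1.2.2) (hexp x.2), fun B => ?_⟩
    rw [card_fixSub_prod (restrictAct φ N hN) ψ χ (fun a x => rfl) B, hψ,
      card_fixSub_eq_mul φ hA hcop N hN B]

/-- Regular pairs exist for coprime solvable actions once they exist on elementary abelian
groups. -/
theorem exists_pair (hA : Group.IsSolvable A)
    (base : ∀ (p : ℕ), p.Prime → ∀ (V : Type v) [CommGroup V] [Finite V] (ψ : A →* MulAut V),
      (∀ x : V, x ^ p = 1) → (Nat.card A).Coprime (Nat.card V) →
      ∃ x y : V, ∀ a : A, ψ a x = x → ψ a y = y → ∀ z : V, ψ a z = z)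
    {K : Type v} [Group K] [Finite K] (φ : A →* MulAut K)
    (hcop : (Nat.card A).Coprime (Nat.card K)) :
    ∃ x y : K, ∀ a : A, φ a x = x → φ a y = y → ∀ z : K, φ a z = z := by
  classical
  let ι := ↥(Nat.card K).primeFactors
  haveI hpr : ∀ i : ι, Fact (i : ℕ).Prime := fun i => ⟨Nat.prime_of_mem_primeFactors i.2⟩
  choose P hPp hPinv hPfix using fun i : ι => exists_sylow_fix φ hA hcop (i : ℕ)
  have hcopP : ∀ i : ι, (Nat.card A).Coprime (Nat.card (P i)) := fun i =>
    hcop.coprime_dvd_right (Subgroup.card_subgroup_dvd_card _)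
  choose V iV fV ψ hexp hψ using fun i : ι => exists_elementary_model hA (i : ℕ) _ (P i) rfl
    (hPp i) (restrictAct φ (P i) (hPinv i)) (hcopP i)
  have hfix : ∀ B : Subgroup A,
      Nat.card (fixSub φ B) = ∏ i : ι, Nat.card (fixSub (ψ i) B) := by
    intro B
    have hsub : (Nat.card (fixSub φ B)).primeFactors ⊆ (Nat.card K).primeFactors :=
      Nat.primeFactors_mono (Subgroup.card_subgroup_dvd_card _) Nat.card_pos.ne'
    calc Nat.card (fixSub φ B)
        = ∏ q ∈ (Nat.card K).primeFactors, q ^ (Nat.card (fixSub φ B)).factorization q := by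
          rw [← Finset.prod_subset hsub fun q _ hq => by
            rw [← Nat.support_factorization, Finsupp.notMem_support_iff] at hq
            rw [hq, pow_zero]]
          exact (Nat.prod_factorization_pow_eq_self Nat.card_pos.ne').symm.trans
            (by rw [Finsupp.prod, Nat.support_factorization])
      _ = ∏ i : ι, (i : ℕ) ^ (Nat.card (fixSub φ B)).factorization i :=
          (Finset.prod_coe_sort _ fun q => q ^ (Nat.card (fixSub φ B)).factorization q).symm
      _ = _ := Finset.prod_congr rfl fun i _ => by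
          rw [hψ, hPfix i B]
          have hF : IsPGroup (i : ℕ) ↥(fixSub φ B ⊓ P i) := (hPp i).to_inf_right
          obtain ⟨k, hk⟩ := IsPGroup.iff_card.1 hF
          rw [hk, Nat.Prime.factorization_pow (hpr i).out, Finsupp.single_eq_same, ← hk]
          exact Nat.card_congr
            { toFun := fun x => ⟨⟨x.1, x.2.2⟩, fun b hb => Subtype.ext (x.2.1 b hb)⟩
              invFun := fun x => ⟨x.1.1, fun b hb => congrArg Subtype.val (x.2 b hb), x.1.2⟩
              left_inv := fun x => rfl
              right_inv := fun x => rfl }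
  let χ : A →* MulAut (∀ i, V i) :=
    { toFun := fun a => MulEquiv.piCongrRight fun i => ψ i a
      map_one' := by apply MulEquiv.ext; intro x; funext i; simp
      map_mul' := fun a b => by apply MulEquiv.ext; intro x; funext i; simp }
  haveI := Finite.of_fintype ι
  have hfix' : ∀ B : Subgroup A, Nat.card (fixSub χ B) = Nat.card (fixSub φ B) := by
    intro B
    rw [hfix, ← Nat.card_pi]
    exact Nat.card_congr
      { toFun := fun x i => ⟨x.1 i, fun b hb => congrFun (x.2 b hb) i⟩
        invFun := fun x => ⟨fun i => (x i).1, fun b hb => funext fun i => (x i).2 b hb⟩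
        left_inv := fun x => rfl
        right_inv := fun x => rfl }
  have hcard : Nat.card (∀ i, V i) = Nat.card K := by
    have h := hfix' ⊥
    have t1 : fixSub χ (⊥ : Subgroup A) = ⊤ :=
      top_le_iff.1 fun x _ b hb => by rw [Subgroup.mem_bot.1 hb, map_one]; rfl
    have t2 : fixSub φ (⊥ : Subgroup A) = ⊤ :=
      top_le_iff.1 fun x _ b hb => by rw [Subgroup.mem_bot.1 hb, map_one]; rfl
    rwa [t1, t2, Subgroup.card_top, Subgroup.card_top] at h
  have hpair : ∀ i : ι, ∃ x y : V i, ∀ a : A, ψ i a x = x → ψ i a y = y →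
      ∀ z : V i, ψ i a z = z := by
    intro i
    refine base i (hpr i).out (V i) (ψ i) (hexp i) (hcop.coprime_dvd_right ?_)
    rw [← hcard, Nat.card_pi]
    exact Finset.dvd_prod_of_mem _ (Finset.mem_univ i)
  choose x y hxy using hpair
  letI iK : MulDistribMulAction A K := MulDistribMulAction.compHom K φ
  letI iV' : MulDistribMulAction A (∀ i, V i) := MulDistribMulAction.compHom _ χ
  -- the kernels agree
  have hker : ∀ a : A, (∀ z : ∀ i, V i, a • z = z) → ∀ z : K, φ a z = z := by
    intro a ha z
    have h := hfix' (Subgroup.zpowers a)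
    have t1 : fixSub χ (Subgroup.zpowers a) = ⊤ := top_le_iff.1 fun z _ b hb => by
      obtain ⟨k, rfl⟩ := hb
      have : χ a = 1 := MulEquiv.ext ha
      simp [map_zpow, this]
    rw [t1, Subgroup.card_top, hcard] at h
    have t2 : z ∈ fixSub φ (Subgroup.zpowers a) := by
      rw [Subgroup.eq_top_of_card_eq _ h.symm]; exact Subgroup.mem_top z
    exact t2 a (Subgroup.mem_zpowers a)
  set W : Subgroup A := MulAction.stabilizer A ((x, y) : (∀ i, V i) × (∀ i, V i)) with hW
  have hWker : ∀ a ∈ W, ∀ z : K, φ a z = z := by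
    intro a ha
    rw [hW, MulAction.mem_stabilizer_iff, Prod.smul_mk, Prod.mk.injEq] at ha
    exact hker a fun z => funext fun i => hxy i a (congrFun ha.1 i) (congrFun ha.2 i) (z i)
  have hfc : ∀ B : Subgroup A,
      H89.fixCard (K × K) B = H89.fixCard ((∀ i, V i) × (∀ i, V i)) B := by
    intro B
    have key : ∀ (L : Type v) [Group L] [MulDistribMulAction A L] (θ : A →* MulAut L),
        (∀ a (l : L), a • l = θ a l) →
        H89.fixCard (L × L) B = Nat.card (fixSub θ B) * Nat.card (fixSub θ B) := by
      intro L _ _ θ hθ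
      rw [← Nat.card_prod, H89.fixCard]
      refine Nat.card_congr
        { toFun := fun l => (⟨l.1.1, fun b hb => ?_⟩, ⟨l.1.2, fun b hb => ?_⟩)
          invFun := fun l => ⟨(l.1.1, l.2.1), fun b hb => ?_⟩
          left_inv := fun l => rfl
          right_inv := fun l => rfl }
      · rw [← hθ]; exact congrArg Prod.fst (l.2 hb)
      · rw [← hθ]; exact congrArg Prod.snd (l.2 hb)
      · rw [MulAction.mem_stabilizer_iff, Prod.smul_mk, hθ, hθ, l.1.2 b hb, l.2.2 b hb]
    rw [key K φ (fun a l => rfl), key _ χ (fun a l => rfl), hfix']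
  have hex : H89.exactCard (K × K) W = H89.exactCard ((∀ i, V i) × (∀ i, V i)) W := by
    haveI := H89.finite_subgroups A
    haveI := Fintype.ofFinite (Subgroup A)
    by_cases hW0 : W = ⊥
    · have h1 := hfc W
      have hmem : W ∈ Finset.univ.filter (fun T : Subgroup A => W ≤ T) := by simp
      rw [H89.fixCard_eq_sum, H89.fixCard_eq_sum, ← Finset.add_sum_erase _ _ hmem,
        ← Finset.add_sum_erase _ _ hmem] at h1
      rw [Finset.sum_congr rfl fun T hT =>
        H89.exactCard_eq_of_fixCard_eq (N := A) (A := K × K)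
          (B := (∀ i, V i) × (∀ i, V i)) (U := W) (fun T _ => hfc T) T (by
            simp only [Finset.mem_erase, Finset.mem_filter, Finset.mem_univ, true_and] at hT
            exact lt_of_le_of_ne hT.2 (Ne.symm hT.1))] at h1
      exact Nat.add_right_cancel h1
    · exact H89.exactCard_eq_of_fixCard_eq (U := ⊥) (fun T _ => hfc T) W (bot_lt_iff_ne_bot.2 hW0)
  have hpos : 0 < H89.exactCard (K × K) W := by
    rw [hex]
    haveI : Nonempty {a : (∀ i, V i) × (∀ i, V i) // MulAction.stabilizer A a = W} :=
      ⟨⟨(x, y), hW.symm⟩⟩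
    exact Nat.card_pos
  obtain ⟨⟨⟨x', y'⟩, hxy'⟩⟩ := (Nat.card_pos_iff.1 hpos).1
  refine ⟨x', y', fun a h1 h2 => hWker a ?_⟩
  rw [← hxy', MulAction.mem_stabilizer_iff, Prod.smul_mk]
  exact Prod.ext h1 h2

end H89.BaseTwo
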