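import Mathlib
import Cfsg.Agent.H89.BaseTwo.Model
import Cfsg.Agent.H35.OddBase.Main
import Cfsg.Agent.H31.InvariantMax
import Cfsg.Agent.H80.PiGroups

/-!
The coprime base size theorems from their linear case in odd characteristic (helper89).
-/

set_option autoImplicit false
set_option linter.unusedSectionVars false
set_option linter.style.haveILetI false

universe u v

namespace H89.BaseTwo

open scoped Pointwise

theorem relIndex_dvd_right {G : Type*} [Group G] {K L H : Subgroup G} [K.Normal] (h : L ≤ H) :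
    K.relIndex L ∣ K.relIndex H := by
  rw [← Subgroup.relIndex_subgroupOf h]
  exact Subgroup.relIndex_dvd_index_of_normal _ _

/-- The linear case: solvable linear groups of coprime order over prime fields of odd order have
bases of size two. -/
def LinearPair : Prop :=
  ∀ (p : ℕ) [Fact p.Prime], p ≠ 2 → ∀ (W : Type v) [AddCommGroup W] [Module (ZMod p) W] [Finite W]
    (G : Type v) [Group G] [Finite G] [Group.IsSolvable G] (ρ : Representation (ZMod p) G W),
    Function.Injective ρ → (Nat.card G).Coprime (Nat.card W) →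
    ∃ x y : W, ∀ g : G, ρ g x = x → ρ g y = y → g = 1

theorem base_add_aux (lin : LinearPair.{v}) (p : ℕ) [Fact p.Prime] (hp2 : p ≠ 2) (W : Type v)
    [AddCommGroup W] [Module (ZMod p) W] [Finite W] (G : Type v) [Group G] [Finite G]
    [Group.IsSolvable G] (f : G →* AddMonoid.End W) (hf : Function.Injective f)
    (hcop : (Nat.card G).Coprime (Nat.card W)) :
    ∃ x y : W, ∀ g : G, f g x = x → f g y = y → g = 1 := by
  let ρ : Representation (ZMod p) G W :=
    { toFun := fun g => AddMonoidHom.toZModLinearMap p (f g)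
      map_one' := LinearMap.ext fun z => by simp only [map_one]; rfl
      map_mul' := fun g h => LinearMap.ext fun z => by simp only [map_mul]; rfl }
  exact lin p hp2 W G ρ (fun g h hgh => hf (AddMonoidHom.ext fun z => LinearMap.congr_fun hgh z)) hcop

theorem base_add (lin : LinearPair.{v}) (p : ℕ) [Fact p.Prime] (hp2 : p ≠ 2) (W : Type v)
    [AddCommGroup W] [Finite W] (hexp : ∀ x : W, p • x = 0) (G : Type v) [Group G] [Finite G]
    [Group.IsSolvable G] (f : G →* AddMonoid.End W) (hf : Function.Injective f)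
    (hcop : (Nat.card G).Coprime (Nat.card W)) :
    ∃ x y : W, ∀ g : G, f g x = x → f g y = y → g = 1 :=
  @base_add_aux lin p _ hp2 W _ (AddCommGroup.zmodModule hexp) _ G _ _ _ f hf hcop

theorem base_of_linear (lin : LinearPair.{v}) {A : Type u} [Group A] [Finite A]
    (hA : Group.IsSolvable A) (p : ℕ) (hp : p.Prime) (V : Type v) [CommGroup V] [Finite V]
    (ψ : A →* MulAut V) (hexp : ∀ x : V, x ^ p = 1)
    (hcop : (Nat.card A).Coprime (Nat.card V)) :
    ∃ x y : V, ∀ a : A, ψ a x = x → ψ a y = y → ∀ z : V, ψ a z = z := by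
  classical
  rcases subsingleton_or_nontrivial V with hs | hs
  · exact ⟨1, 1, fun a _ _ z => Subsingleton.elim _ _⟩
  haveI := Fact.mk hp
  have hVp : IsPGroup p V := fun x => ⟨1, by rw [pow_one]; exact hexp x⟩
  have hpV : p ∣ Nat.card V := by
    obtain ⟨k, hk⟩ := IsPGroup.iff_card.1 hVp
    have h1 : 1 < Nat.card V := Finite.one_lt_card
    rcases k with - | k
    · rw [hk, pow_zero] at h1; omega
    · rw [hk]; exact dvd_pow_self p (by omega)
  haveI := hA
  haveI : Group.IsSolvable ψ.range := Group.isSolvable_of_surjective ψ.rangeRestrict_surjective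
  have hcopG : (Nat.card ψ.range).Coprime (Nat.card V) :=
    hcop.coprime_dvd_left (Subgroup.card_range_dvd ψ)
  have hpG : ¬ p ∣ Nat.card ψ.range := fun h =>
    hp.one_lt.ne' (Nat.dvd_one.1 (hcopG ▸ Nat.dvd_gcd h hpV))
  by_cases h2 : p = 2
  · subst h2
    have hodd : Odd (Nat.card ψ.range) := Nat.odd_iff.2 (by omega)
    letI : DistribMulAction ψ.range (Additive V) :=
      { smul := fun g x => Additive.ofMul ((g : MulAut V) x.toMul)
        one_smul := fun x => rfl
        mul_smul := fun g h x => rfl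
        smul_zero := fun g => congrArg Additive.ofMul (map_one (g : MulAut V))
        smul_add := fun g x y => congrArg Additive.ofMul (map_mul (g : MulAut V) x.toMul y.toMul) }
    have hcr : H35.OddBase.IsCR ψ.range (Additive V) := by
      intro U hU
      obtain ⟨C, hC, hCW, hCW'⟩ := H31.exists_invariant_complement (A := ψ.range) (V := V)
        { toFun := fun g => ((g : MulAut V) : V →* V)
          map_one' := rfl
          map_mul' := fun g h => rfl } hp hexp hpG U.toSubgroup' (fun g w hw => hU g _ hw)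
      refine ⟨Subgroup.toAddSubgroup C, fun g c hc => hC g _ hc, ?_, ?_⟩
      · rw [eq_bot_iff]
        intro x hx
        have h : Additive.toMul x ∈ C ⊓ U.toSubgroup' := ⟨hx.2, hx.1⟩
        rw [hCW, Subgroup.mem_bot] at h
        exact congrArg Additive.ofMul h
      · rw [eq_top_iff]
        intro x _
        obtain ⟨c, hc, w, hw, hcw⟩ := Subgroup.mem_sup.1 (hCW' ▸ Subgroup.mem_top (Additive.toMul x))
        rw [sup_comm]
        exact AddSubgroup.mem_sup.2
          ⟨Additive.ofMul c, hc, Additive.ofMul w, hw, congrArg Additive.ofMul hcw⟩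
    obtain ⟨v, w, h⟩ := H35.OddBase.hasPair_of_odd hodd hcr
    refine ⟨v.toMul, w.toMul, fun a h1 h2 z => ?_⟩
    exact congrArg Additive.toMul (h ⟨ψ a, a, rfl⟩ (congrArg Additive.ofMul h1)
      (congrArg Additive.ofMul h2) (Additive.ofMul z))
  · haveI : Finite (Additive V) := inferInstanceAs (Finite V)
    obtain ⟨x, y, h⟩ := base_add lin p h2 (Additive V)
      (fun x => congrArg Additive.ofMul (hexp x.toMul)) ψ.range
      { toFun := fun g => (MonoidHom.toAdditive ((g : MulAut V) : V →* V) : AddMonoid.End (Additive V))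
        map_one' := rfl
        map_mul' := fun g h => rfl }
      (fun g h hgh => Subtype.ext (MulEquiv.ext fun z =>
        congrArg Additive.toMul (congrFun (congrArg DFunLike.coe hgh) (Additive.ofMul z))))
      hcopG
    refine ⟨x.toMul, y.toMul, fun a h1 h2 z => ?_⟩
    have h3 : (⟨ψ a, a, rfl⟩ : ψ.range) = 1 :=
      h _ (congrArg Additive.ofMul h1) (congrArg Additive.ofMul h2)
    have h4 : ψ a = 1 := congrArg Subtype.val h3
    rw [h4]; rfl

/-- Coprime solvable groups of automorphisms have bases of size two. -/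
theorem coprime_pair (lin : LinearPair.{v}) {A : Type u} {K : Type v} [Group A] [Finite A] [Group K]
    [Finite K] [MulDistribMulAction A K] [FaithfulSMul A K] (hA : Group.IsSolvable A)
    (hcop : (Nat.card A).Coprime (Nat.card K)) :
    ∃ x y : K, ∀ a : A, a • x = x → a • y = y → a = 1 := by
  obtain ⟨x, y, h⟩ := exists_pair hA (fun p hp V _ _ ψ hexp hc => base_of_linear lin hA p hp V ψ hexp hc)
    (MulDistribMulAction.toMulAut A K) hcop
  exact ⟨x, y, fun a h1 h2 => eq_of_smul_eq_smul fun z : K => (h a h1 h2 z).trans (one_smul A z).symm⟩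

/-- Every factor of the series is a power of a prime of `π` or prime to `π`. -/
def HasPiSeries (π : Set ℕ) (G : Type*) [Group G] : Prop :=
  ∃ (n : ℕ) (N : Fin (n + 1) → Subgroup G), N 0 = ⊥ ∧ N (Fin.last n) = ⊤ ∧ Monotone N ∧ (∀ i, (N i).Normal) ∧
      ∀ i : Fin n, (∃ p ∈ π, p.Prime ∧ ∃ k : ℕ, (N i.castSucc).relIndex (N i.succ) = p ^ k) ∨
        (∀ q : ℕ, q.Prime → q ∣ (N i.castSucc).relIndex (N i.succ) → q ∉ π)

section PiSep

variable {G : Type u} [Group G] [Finite G] {π : Set ℕ}

theorem piCore_prime (q : ℕ) (hq : q.Prime) (h : q ∣ Nat.card (Cfsg.piCore π G)) : q ∈ π :=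
  H80.piCore_piGrp (G := G) π q hq h

theorem centralizer_le_piCompl (hs : HasPiSeries π G) (h1 : Cfsg.piCore π G = ⊥) :
    Subgroup.centralizer ((Cfsg.piCore πᶜ G : Subgroup G) : Set G) ≤ Cfsg.piCore πᶜ G := by
  classical
  obtain ⟨n, N, h0, hlast, hmono, hnorm, hfac⟩ := hs
  set M := Cfsg.piCore πᶜ G
  set C := Subgroup.centralizer (M : Set G)
  suffices h : ∀ i, N i ⊓ C ≤ M by simpa [hlast] using h (Fin.last n)
  intro i
  induction i using Fin.induction with
  | zero => rw [h0, bot_inf_eq]; exact bot_le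
  | succ i ih =>
    haveI := hnorm i.succ
    haveI : C.Normal := by
      haveI : M.Normal := inferInstance
      exact Subgroup.normal_centralizer
    set L := N i.succ ⊓ C with hL
    haveI hLn : L.Normal := inferInstance
    set Z := (L ⊓ M).subgroupOf L with hZ
    have hle : N i.castSucc ⊓ L ≤ L ⊓ M :=
      le_inf inf_le_right (le_trans (inf_le_inf_left _ inf_le_right) ih)
    have hdvd : (L ⊓ M).relIndex L ∣ (N i.castSucc).relIndex (N i.succ) := by
      refine (Subgroup.relIndex_dvd_of_le_left L hle).trans ?_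
      rw [Subgroup.inf_relIndex_right]
      haveI := hnorm i.castSucc
      exact relIndex_dvd_right inf_le_left
    have hcardZ : Nat.card Z = Nat.card ↥(L ⊓ M) :=
      Nat.card_congr (Subgroup.subgroupOfEquivOfLe inf_le_left).toEquiv
    have hMpi : ∀ q : ℕ, q.Prime → q ∣ Nat.card ↥(L ⊓ M) → q ∈ πᶜ := fun q hq h =>
      piCore_prime q hq (h.trans (Subgroup.card_dvd_of_le inf_le_right))
    have hmul : Nat.card L = Nat.card ↥(L ⊓ M) * (L ⊓ M).relIndex L := by
      rw [← hcardZ, hZ, Subgroup.relIndex, Subgroup.card_mul_index]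
    rcases hfac i with ⟨p, hpπ, hp, k, hk⟩ | hcase
    · obtain ⟨j, -, hj⟩ := (Nat.dvd_prime_pow hp).1 (hk ▸ hdvd)
      haveI : Z.Normal := by
        haveI : (L ⊓ M).Normal := inferInstance
        exact Subgroup.Normal.subgroupOf this L
      have hcop : (Nat.card Z).Coprime Z.index := by
        rw [hcardZ, show Z.index = p ^ j from hj]
        exact Nat.Coprime.pow_right _ ((hp.coprime_iff_not_dvd.2 fun h => hMpi p hp h hpπ).symm)
      obtain ⟨T, hT⟩ := Subgroup.exists_right_complement'_of_coprime hcop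
      have hcentral : ∀ z ∈ Z, ∀ g : L, z * g = g * z := fun z hz g => Subtype.ext
        (Subgroup.mem_centralizer_iff.1 g.2.2 _ (Subgroup.mem_subgroupOf.1 hz).2)
      haveI hTn : T.Normal := ⟨fun t ht g => by
        obtain ⟨z, hz, s, hs, rfl⟩ : ∃ z ∈ Z, ∃ s ∈ T, z * s = g := by
          have h := hT.sup_eq_top
          exact Subgroup.mem_sup_of_normal_left.1 (h ▸ Subgroup.mem_top g)
        have h2 : z * s * t * (z * s)⁻¹ = s * t * s⁻¹ := by
          rw [show z * s * t * (z * s)⁻¹ = z * (s * t * s⁻¹) * z⁻¹ by group,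
            hcentral z hz (s * t * s⁻¹), mul_inv_cancel_right]
        rw [h2]
        exact mul_mem (mul_mem hs ht) (inv_mem hs)⟩
      have hcardT : Nat.card T = p ^ j := by rw [← hT.symm.index_eq_card, ← hj]; rfl
      haveI hTc : T.Characteristic := by
        refine Subgroup.characteristic_iff_comap_le.2 fun e t ht => ?_
        obtain ⟨z, hz, s, hs, he⟩ : ∃ z ∈ Z, ∃ s ∈ T, z * s = t := by
          have h := hT.sup_eq_top
          exact Subgroup.mem_sup_of_normal_left.1 (h ▸ Subgroup.mem_top t)
        have hord : orderOf z ∣ p ^ j := by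
          have het : (e.toMonoidHom t) ∈ T := ht
          have h3 : t ^ (p ^ j) = 1 := e.injective (by
            rw [map_pow, map_one, ← hcardT]
            exact congrArg Subtype.val (pow_card_eq_one' (x := (⟨e.toMonoidHom t, het⟩ : T))))
          have hs1 : s ^ (p ^ j) = 1 := by
            rw [← hcardT]
            exact congrArg Subtype.val (pow_card_eq_one' (x := (⟨s, hs⟩ : T)))
          apply orderOf_dvd_of_pow_eq_one
          rw [← he, (show Commute z s from hcentral z hz s).mul_pow, hs1, mul_one] at h3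
          exact h3
        have hz1 : z = 1 := by
          rw [← orderOf_eq_one_iff]
          refine Nat.dvd_one.1 ?_
          rw [← (hcop.coprime_dvd_right (dvd_refl _)).gcd_eq_one, show Z.index = p ^ j from hj]
          refine Nat.dvd_gcd ?_ hord
          rw [← Subgroup.orderOf_mk z hz]; exact orderOf_dvd_natCard _
        rw [← he, hz1, one_mul]; exact hs
      have hTG : (T.map L.subtype).Normal := inferInstance
      have hTbot : T.map L.subtype = ⊥ := le_bot_iff.1 (h1 ▸ H80.le_piCore hTG fun q hq h => by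
        rw [Subgroup.card_map_of_injective L.subtype_injective, hcardT] at h
        rwa [(Nat.prime_dvd_prime_iff_eq hq hp).1 (hq.dvd_of_dvd_pow h)])
      rw [Subgroup.map_eq_bot_iff_of_injective _ L.subtype_injective] at hTbot
      rw [hTbot, Subgroup.card_bot] at hcardT
      rw [← hcardT] at hj
      exact (Subgroup.relIndex_eq_one.1 hj).trans inf_le_right
    · refine H80.le_piCore hLn fun q hq h => ?_
      rw [hmul] at h
      rcases hq.dvd_mul.1 h with h | h
      · exact hMpi q hq h
      · exact hcase q hq (h.trans hdvd)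

theorem isSolvable_piGroup (hs : HasPiSeries π G) (H : Subgroup G)
    (hH : ∀ q : ℕ, q.Prime → q ∣ Nat.card H → q ∈ π) : Group.IsSolvable H := by
  classical
  obtain ⟨n, N, h0, hlast, hmono, hnorm, hfac⟩ := hs
  suffices h : ∀ i, Group.IsSolvable ↥(N i ⊓ H) by
    have := h (Fin.last n)
    rwa [hlast, top_inf_eq] at this
  intro i
  induction i using Fin.induction with
  | zero =>
    haveI : Subsingleton ↥(N 0 ⊓ H) := by rw [h0, bot_inf_eq]; infer_instance
    infer_instance
  | succ i ih =>
    set L := N i.succ ⊓ H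
    set Z := (N i.castSucc).subgroupOf L with hZ
    haveI := hnorm i.castSucc
    haveI hZn : Z.Normal := Subgroup.Normal.subgroupOf (hnorm _) L
    haveI := ih
    haveI hZs : Group.IsSolvable Z :=
      Group.isSolvable_of_isSolvable_injective
        (f := ({ toFun := fun x => ⟨((x : L) : G), x.2, (x : L).2.2⟩
                 map_one' := rfl
                 map_mul' := fun _ _ => rfl } : Z →* ↥(N i.castSucc ⊓ H)))
        (fun x y hxy => by
          apply Subtype.ext; apply Subtype.ext
          exact congrArg (fun t : ↥(N i.castSucc ⊓ H) => (t : G)) hxy)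
    have hidx : Z.index ∣ (N i.castSucc).relIndex (N i.succ) :=
      relIndex_dvd_right inf_le_left
    have hidx' : Z.index ∣ Nat.card H :=
      (Subgroup.index_dvd_card Z).trans (Subgroup.card_dvd_of_le inf_le_right)
    have hq : Group.IsSolvable (L ⧸ Z) := by
      rcases hfac i with ⟨p, -, hp, k, hk⟩ | hcase
      · haveI := Fact.mk hp
        obtain ⟨j, -, hj⟩ := (Nat.dvd_prime_pow hp).1 (hk ▸ hidx)
        haveI : Group.IsNilpotent (L ⧸ Z) :=
          (IsPGroup.of_card (show Nat.card (L ⧸ Z) = p ^ j from hj)).isNilpotent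
        infer_instance
      · have h1 : Z.index = 1 := by
          by_contra h
          obtain ⟨q, hq, hqd⟩ := Nat.exists_prime_and_dvd h
          exact hcase q hq (hqd.trans hidx) (hH q hq (hqd.trans hidx'))
        haveI : Subsingleton (L ⧸ Z) := (Nat.card_eq_one_iff_unique.1 h1).1
        infer_instance
    exact Group.isSolvable_of_ker_le_range Z.subtype (QuotientGroup.mk' Z)
      (by rw [QuotientGroup.ker_mk', Subgroup.range_subtype])

theorem hasPiSeries_quotient (hs : HasPiSeries π G) (O : Subgroup G) [O.Normal] :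
    HasPiSeries π (G ⧸ O) := by
  obtain ⟨n, N, h0, hlast, hmono, hnorm, hfac⟩ := hs
  refine ⟨n, fun i => (N i).map (QuotientGroup.mk' O), by simp [h0], ?_, ?_, ?_, ?_⟩
  · simp only [hlast]
    exact Subgroup.map_top_of_surjective _ (QuotientGroup.mk'_surjective O)
  · exact fun i j hij => Subgroup.map_mono (hmono hij)
  · exact fun i => (hnorm i).map _ (QuotientGroup.mk'_surjective O)
  · intro i
    have hdvd : ((N i.castSucc).map (QuotientGroup.mk' O)).relIndex
        ((N i.succ).map (QuotientGroup.mk' O)) ∣ (N i.castSucc).relIndex (N i.succ) := by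
      haveI := hnorm i.castSucc
      have hle : N i.castSucc ≤ N i.succ := hmono (Fin.castSucc_lt_succ (i := i)).le
      rw [Subgroup.relIndex_map_map, QuotientGroup.ker_mk',
        show N i.succ ⊔ O = N i.succ ⊔ (N i.castSucc ⊔ O) by
          rw [← sup_assoc, sup_eq_left.2 hle],
        Subgroup.relIndex_sup_right]
      exact Subgroup.relIndex_dvd_of_le_left _ le_sup_left
    rcases hfac i with ⟨p, hpπ, hp, k, hk⟩ | hcase
    · obtain ⟨j, -, hj⟩ := (Nat.dvd_prime_pow hp).1 (hk ▸ hdvd)
      exact Or.inl ⟨p, hpπ, hp, j, hj⟩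
    · exact Or.inr fun q hq h => hcase q hq (h.trans hdvd)

/-- Three conjugates of a Hall subgroup meet in the core, when the core is trivial. -/
theorem three_hall_of_core_eq_bot (lin : LinearPair.{u}) (hs : HasPiSeries π G) (H : Subgroup G)
    (hH : Cfsg.IsPiHall π H) (h1 : Cfsg.piCore π G = ⊥) :
    ∃ x y : G, H ⊓ MulAut.conj x • H ⊓ MulAut.conj y • H = ⊥ := by
  classical
  set M := Cfsg.piCore πᶜ G with hM
  haveI : M.Normal := inferInstance
  let φ : H →* MulAut M := MulAut.conjNormal.comp H.subtype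
  have hcop : (Nat.card H).Coprime (Nat.card M) :=
    Nat.coprime_of_dvd fun q hq hqH hqM => piCore_prime q hq hqM (hH.1 q hq hqH)
  have hdisj : H ⊓ M = ⊥ := (Subgroup.disjoint_of_coprime_natCard hcop).eq_bot
  obtain ⟨x, y, hxy⟩ := exists_pair (isSolvable_piGroup hs H hH.1)
    (fun p hp V _ _ ψ hexp hc =>
      base_of_linear lin (isSolvable_piGroup hs H hH.1) p hp V ψ hexp hc) φ hcop
  have key : ∀ (x : M) (h : H), (h : G) ∈ MulAut.conj (x : G) • H → φ h x = x := by
    intro x h hh
    rw [Subgroup.mem_pointwise_smul_iff_inv_smul_mem, ← map_inv, MulAut.smul_def,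
      MulAut.conj_apply, inv_inv] at hh
    have h3 : (h : G)⁻¹ * ((x : G)⁻¹ * h * x) ∈ H ⊓ M := by
      refine ⟨H.mul_mem (H.inv_mem h.2) hh, ?_⟩
      have h4 : (h : G)⁻¹ * ((x : G)⁻¹ * h * x) = ((h : G)⁻¹ * (x : G)⁻¹ * ((h : G)⁻¹)⁻¹) * x := by
        group
      rw [h4]
      exact M.mul_mem ((inferInstance : M.Normal).conj_mem _ (M.inv_mem x.2) _) x.2
    rw [hdisj, Subgroup.mem_bot, inv_mul_eq_one] at h3
    apply Subtype.ext
    show (h : G) * x * (h : G)⁻¹ = x
    rw [mul_inv_eq_iff_eq_mul]
    calc (h : G) * x = (x : G) * ((x : G)⁻¹ * h * x) := by group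
      _ = x * h := by rw [← h3]
  refine ⟨x, y, ?_⟩
  rw [eq_bot_iff]
  intro g hg
  rw [Subgroup.mem_inf, Subgroup.mem_inf] at hg
  have hall := hxy ⟨g, hg.1.1⟩ (key x ⟨g, hg.1.1⟩ hg.1.2) (key y ⟨g, hg.1.1⟩ hg.2)
  have hgC : g ∈ Subgroup.centralizer (M : Set G) := by
    rw [Subgroup.mem_centralizer_iff]
    intro m hm
    have h5 : g * m * g⁻¹ = m := congrArg Subtype.val (hall ⟨m, hm⟩)
    rw [mul_inv_eq_iff_eq_mul] at h5
    exact h5.symm
  rw [← hdisj]
  exact ⟨hg.1.1, centralizer_le_piCompl hs h1 hgC⟩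

theorem piCore_quotient_eq_bot : Cfsg.piCore π (G ⧸ Cfsg.piCore π G) = ⊥ := by
  set O := Cfsg.piCore π G
  set R := (Cfsg.piCore π (G ⧸ O)).comap (QuotientGroup.mk' O) with hR
  have hle : R ≤ O := by
    refine H80.le_piCore inferInstance fun q hq h => ?_
    have h2 := Subgroup.card_mul_index (O.subgroupOf R)
    rw [← h2] at h
    rcases hq.dvd_mul.1 h with h | h
    · rw [Nat.card_congr (Subgroup.subgroupOfEquivOfLe (QuotientGroup.le_comap_mk' O _)).toEquiv] at h
      exact piCore_prime q hq h
    · have h3 : (O.subgroupOf R).index = Nat.card (Cfsg.piCore π (G ⧸ O)) := by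
        conv_lhs => rw [show O = (⊥ : Subgroup (G ⧸ O)).comap (QuotientGroup.mk' O) by
          rw [MonoidHom.comap_bot, QuotientGroup.ker_mk']]
        rw [← Subgroup.relIndex, hR, Subgroup.relIndex_comap,
          Subgroup.map_comap_eq_self_of_surjective (QuotientGroup.mk'_surjective O),
          Subgroup.relIndex_bot_left]
      rw [h3] at h
      exact piCore_prime q hq h
  rw [eq_bot_iff, ← Subgroup.map_comap_eq_self_of_surjective (QuotientGroup.mk'_surjective O)
    (Cfsg.piCore π (G ⧸ O)), Subgroup.map_le_iff_le_comap, MonoidHom.comap_bot,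
    QuotientGroup.ker_mk']
  exact hle

theorem relIndex_sup_dvd (H : Subgroup G) :
    H.relIndex (H ⊔ Cfsg.piCore π G) ∣ Nat.card (Cfsg.piCore π G) := by
  set O := Cfsg.piCore π G
  have h1 := Subgroup.relIndex_mul_relIndex (H ⊓ O) H (H ⊔ O) inf_le_left le_sup_left
  have h2 := Subgroup.relIndex_mul_relIndex (H ⊓ O) O (H ⊔ O) inf_le_right le_sup_right
  rw [Subgroup.inf_relIndex_left, ← h2, Subgroup.inf_relIndex_right, Subgroup.relIndex_sup_right,
    mul_comm (H.relIndex O)] at h1
  have h3 : 0 < O.relIndex H :=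
    Nat.pos_of_dvd_of_pos (Subgroup.relIndex_dvd_card O H) Nat.card_pos
  rw [Nat.eq_of_mul_eq_mul_left h3 h1]
  exact Subgroup.relIndex_dvd_card _ _

/-- Three conjugates of a Hall subgroup meet in the core. -/
theorem three_hall (lin : LinearPair.{u}) (hs : HasPiSeries π G) (H : Subgroup G)
    (hH : Cfsg.IsPiHall π H) :
    ∃ x y : G, H ⊓ MulAut.conj x • H ⊓ MulAut.conj y • H = Cfsg.piCore π G := by
  classical
  set O := Cfsg.piCore π G
  set q := QuotientGroup.mk' O
  have hOH : O ≤ H := by
    rw [← sup_eq_left]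
    set L := H ⊔ O
    refine le_antisymm ?_ le_sup_left
    rw [← Subgroup.relIndex_eq_one]
    by_contra h
    obtain ⟨r, hr, hrd⟩ := Nat.exists_prime_and_dvd h
    refine hH.2 r hr ?_ (hrd.trans (Subgroup.relIndex_dvd_index_of_le (le_sup_left : H ≤ L)))
    exact piCore_prime r hr (hrd.trans (relIndex_sup_dvd H))
  have hHall : Cfsg.IsPiHall π (H.map q) :=
    ⟨fun r hr h => hH.1 r hr (h.trans (Subgroup.card_map_dvd _ _)), fun r hr hπ h =>
      hH.2 r hr hπ (h.trans (Subgroup.index_map_dvd _ (QuotientGroup.mk'_surjective O)))⟩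
  obtain ⟨x', y', h⟩ := three_hall_of_core_eq_bot (π := π) lin (hasPiSeries_quotient hs O)
    (H.map q) hHall piCore_quotient_eq_bot
  obtain ⟨x, rfl⟩ := QuotientGroup.mk'_surjective O x'
  obtain ⟨y, rfl⟩ := QuotientGroup.mk'_surjective O y'
  have hO : ∀ z : G, O ≤ MulAut.conj z • H := fun z g hg => by
    rw [Subgroup.mem_pointwise_smul_iff_inv_smul_mem, ← map_inv, MulAut.smul_def, MulAut.conj_apply]
    exact hOH ((inferInstance : O.Normal).conj_mem g hg z⁻¹)
  have hq : ∀ (z g : G), g ∈ MulAut.conj z • H → q g ∈ MulAut.conj (q z) • H.map q := by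
    intro z g hg
    rw [Subgroup.mem_pointwise_smul_iff_inv_smul_mem, ← map_inv, MulAut.smul_def,
      MulAut.conj_apply] at hg ⊢
    refine ⟨_, hg, ?_⟩
    simp only [map_mul, map_inv]
  refine ⟨x, y, le_antisymm ?_ (le_inf (le_inf hOH (hO x)) (hO y))⟩
  intro g hg
  rw [Subgroup.mem_inf, Subgroup.mem_inf] at hg
  have h6 : q g ∈ H.map q ⊓ MulAut.conj (q x) • H.map q ⊓ MulAut.conj (q y) • H.map q :=
    ⟨⟨Subgroup.mem_map_of_mem q hg.1.1, hq x g hg.1.2⟩, hq y g hg.2⟩
  rw [h, Subgroup.mem_bot] at h6
  exact (QuotientGroup.eq_one_iff g).1 h6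

end PiSep

end H89.BaseTwo
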